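import Groth.Agent.LimProj7.Step

/-! The limit of a system of finite projective modules over a limit of rings. -/

set_option autoImplicit false
universe u

namespace Groth.Agent.LimProj7

theorem limit (A : Type u) [CommRing A] (An : ℕ → Type u)
    [∀ n, CommRing (An n)] (t : ∀ n, An (n + 1) →+* An n) (π : ∀ n, A →+* An n)
    (ht : ∀ n, Function.Surjective (t n)) (hnil : ∀ n (x : An (n + 1)), t n x = 0 → IsNilpotent x)
    (hπ : ∀ n a, t n (π (n + 1) a) = π n a) (hinj : ∀ a b : A, (∀ n, π n a = π n b) → a = b)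
    (hlim : ∀ x : ∀ n, An n, (∀ n, t n (x (n + 1)) = x n) → ∃ a : A, ∀ n, π n a = x n)
    (M : ℕ → Type u) [∀ n, AddCommGroup (M n)] [∀ n, Module (An n) (M n)] (u : ∀ n, M (n + 1) →ₛₗ[t n] M n)
    [Module.Projective (An 0) (M 0)] (hfin : ∀ n, Module.Finite (An n) (M n)) (hflat : ∀ n, Module.Flat (An n) (M n))
    (hu : ∀ n, Function.Surjective (u n) ∧ LinearMap.ker (u n) = RingHom.ker (t n) • (⊤ : Submodule (An (n + 1)) (M (n + 1)))) :
    ∃ (P : Type u) (_ : AddCommGroup P) (_ : Module A P) (p : ∀ n, P →ₛₗ[π n] M n),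
      Module.Finite A P ∧ Module.Projective A P ∧ (∀ n (x : P), u n (p (n + 1) x) = p n x) ∧
      (∀ n, Function.Surjective (p n) ∧ LinearMap.ker (p n) = RingHom.ker (π n) • (⊤ : Submodule A P)) ∧
      (∀ x : (∀ n, M n), (∀ n, u n (x (n + 1)) = x n) → ∃! q : P, ∀ n, p n q = x n) := by
  classical
  -- compatible generators
  obtain ⟨m, g₀, hg₀⟩ := Module.Finite.exists_fin (R := An 0) (M := M 0)
  let g : ∀ n, Fin m → M n := fun n => Nat.rec (motive := fun n => Fin m → M n) g₀
    (fun n gn i => Function.surjInv (hu n).1 (gn i)) n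
  have hg : ∀ n i, u n (g (n + 1) i) = g n i := fun n i => Function.surjInv_eq (hu n).1 (g n i)
  -- compatible splittings
  have hsur₀ : Function.Surjective (Fintype.linearCombination (An 0) g₀) := fun y => by
    have hy : y ∈ Submodule.span (An 0) (Set.range g₀) := hg₀ ▸ Submodule.mem_top
    rw [← Fintype.range_linearCombination] at hy
    exact hy
  obtain ⟨s₀, hs₀⟩ := Module.projective_lifting_property (Fintype.linearCombination (An 0) g₀) LinearMap.id hsur₀
  have hs₀' : ∀ y, ∑ i, s₀ y i • g₀ i = y := fun y =>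
    (Fintype.linearCombination_apply (An 0) g₀ (s₀ y)).symm.trans (DFunLike.congr_fun hs₀ y)
  let Sec : ℕ → Type u := fun n => {s : M n →ₗ[An n] (Fin m → An n) // ∀ y, ∑ i, s y i • g n i = y}
  have hstep : ∀ n, ∀ s : Sec n, ∃ s' : Sec (n + 1), ∀ y i, t n (s'.1 y i) = s.1 (u n y) i := fun n s => by
    haveI := hfin (n + 1)
    haveI := hflat (n + 1)
    obtain ⟨s', h1, h2⟩ := exists_section (t n) (ht n) (hnil n) (u n) (hu n).2 (g (n + 1)) s.1
      (fun y => by simp only [hg]; exact s.2 y)
    exact ⟨⟨s', h1⟩, h2⟩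
  choose nxt hnxt using hstep
  let σ : ∀ n, Sec n := fun n => Nat.rec (motive := Sec) ⟨s₀, hs₀'⟩ (fun n s => nxt n s) n
  have hσ : ∀ n y i, t n ((σ (n + 1)).1 y i) = (σ n).1 (u n y) i := fun n => hnxt n (σ n)
  -- surjectivity of the projections of the rings
  have hπsur : ∀ n, Function.Surjective (π n) := by
    intro n x
    -- extend `x` to a compatible sequence
    obtain ⟨f, hf, hfn⟩ : ∃ f : ∀ N, An N, (∀ N, t N (f (N + 1)) = f N) ∧ f n = x := by
      have key : ∀ (n : ℕ) (x : An n), ∃ f : ∀ N, An N, (∀ N, t N (f (N + 1)) = f N) ∧ f n = x := by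
        intro n
        induction n with
        | zero =>
          intro x
          refine ⟨fun N => Nat.rec (motive := An) x (fun N y => Function.surjInv (ht N) y) N, fun N => ?_, rfl⟩
          exact Function.surjInv_eq (ht N) _
        | succ n ih =>
          intro x
          obtain ⟨f, hf, hfn⟩ := ih (t n x)
          refine ⟨fun N => if h : N ≤ n then f N else
            Nat.leRec (motive := fun N _ => An N) x (fun N _ y => Function.surjInv (ht N) y) (show n + 1 ≤ N by omega),
            fun N => ?_, ?_⟩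
          · rcases lt_trichotomy N n with h | rfl | h
            · simp only [dif_pos h.le, dif_pos (show N + 1 ≤ n from h)]
              exact hf N
            · simp only [le_refl, dif_pos, dif_neg (show ¬ N + 1 ≤ N by omega), Nat.leRec_self]
              exact hfn.symm
            · simp only [dif_neg (show ¬ N ≤ n by omega), dif_neg (show ¬ N + 1 ≤ n by omega)]
              rw [Nat.leRec_succ _ _ (show n + 1 ≤ N by omega)]
              exact Function.surjInv_eq (ht N) _
          · simp only [dif_neg (show ¬ n + 1 ≤ n by omega), Nat.leRec_self]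
      exact key n x
    obtain ⟨a, ha⟩ := hlim f hf
    exact ⟨a, (ha n).trans hfn⟩
  letI : ∀ n, Module A (M n) := fun n => Module.compHom (M n) (π n)
  have hsmul : ∀ n (a : A) (y : M n), a • y = π n a • y := fun _ _ _ => rfl
  let P : Submodule A (∀ n, M n) :=
    { carrier := {x | ∀ n, u n (x (n + 1)) = x n}
      add_mem' := fun {x y} hx hy n => by simp [hx n, hy n]
      zero_mem' := fun n => by simp
      smul_mem' := fun a x hx n => by
        show u n (π (n + 1) a • x (n + 1)) = π n a • x n
        rw [map_smulₛₗ, hπ, hx n] }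
  let p : ∀ n, P →ₛₗ[π n] M n := fun n =>
    { toFun := fun x => x.1 n, map_add' := fun _ _ => rfl, map_smul' := fun _ _ => rfl }
  let G : Fin m → P := fun i => ⟨fun n => g n i, fun n => hg n i⟩
  let Φ : (Fin m → A) →ₗ[A] P := Fintype.linearCombination A G
  have hΦ : ∀ c n, (Φ c).1 n = ∑ i, π n (c i) • g n i := fun c n => by
    simp [Φ, Fintype.linearCombination_apply, G, hsmul, Finset.sum_apply]
  have hco : ∀ (x : P) (i : Fin m), ∃ a : A, ∀ n, π n a = (σ n).1 (x.1 n) i := fun x i =>
    hlim _ fun n => by rw [hσ, x.2 n]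
  choose co hco using hco
  let S : P →ₗ[A] (Fin m → A) :=
    { toFun := fun x i => co x i
      map_add' := fun x y => funext fun i => hinj _ _ fun n => by simp [hco]
      map_smul' := fun a x => funext fun i => hinj _ _ fun n => by simp [hco, hsmul] }
  have hΦS : Φ.comp S = LinearMap.id := LinearMap.ext fun x => Subtype.ext (funext fun n => by
    show (Φ (S x)).1 n = x.1 n
    rw [hΦ]
    refine Eq.trans ?_ ((σ n).2 (x.1 n))
    exact Finset.sum_congr rfl fun i _ => by rw [show S x i = co x i from rfl, hco])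
  refine ⟨P, inferInstance, inferInstance, p, Module.Finite.of_surjective Φ fun x => ⟨S x, DFunLike.congr_fun hΦS x⟩,
    Module.Projective.of_split S Φ hΦS, fun n x => x.2 n, fun n => ⟨fun y => ?_, ?_⟩, fun x hx => ?_⟩
  · choose c hc using fun i => hπsur n ((σ n).1 y i)
    exact ⟨Φ c, (hΦ c n).trans (by simp only [hc]; exact (σ n).2 y)⟩
  · refine le_antisymm (fun x hx => ?_) (Submodule.smul_le.mpr fun a ha x _ => ?_)
    · rw [← show Φ (S x) = x from DFunLike.congr_fun hΦS x, Fintype.linearCombination_apply]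
      refine Submodule.sum_mem _ fun i _ => Submodule.smul_mem_smul ?_ Submodule.mem_top
      show π n (co x i) = 0
      rw [hco, show x.1 n = 0 from hx, map_zero]
      rfl
    · show π n a • x.1 n = 0
      rw [RingHom.mem_ker.mp ha, zero_smul]
  · exact ⟨⟨x, hx⟩, fun n => rfl, fun q hq => Subtype.ext (funext hq)⟩

end Groth.Agent.LimProj7
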