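import Mathlib

/-! Lifting a presentation of a projective module along a ring map with nil kernel. -/

set_option autoImplicit false
universe u

open Matrix

namespace Groth.Agent.LimProj7

variable {R S : Type u} [CommRing R] [CommRing S] (t : R →+* S) (ht : Function.Surjective t)
  (hnil : ∀ r, t r = 0 → IsNilpotent r) {m : ℕ}

include hnil in
theorem isNilpotent_matrix (X : Matrix (Fin m) (Fin m) R) (hX : ∀ i l, t (X i l) = 0) : IsNilpotent X := by
  let J : Ideal R := Ideal.span (Set.range fun il : Fin m × Fin m => X il.1 il.2)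
  have hJ : IsNilpotent J := by
    refine (Ideal.FG.isNilpotent_iff_le_nilradical ?_).mpr ?_
    · exact Submodule.fg_span (Set.finite_range _)
    · refine Ideal.span_le.mpr ?_
      rintro _ ⟨il, rfl⟩
      exact hnil _ (hX _ _)
  obtain ⟨k, hk⟩ := hJ
  refine ⟨k, ?_⟩
  have : ∀ j i l, (X ^ j) i l ∈ J ^ j := by
    intro j
    induction j with
    | zero => intro i l; simp
    | succ j ih =>
      intro i l
      rw [pow_succ J, pow_succ X]
      erw [Matrix.mul_apply]
      exact Ideal.sum_mem _ fun q _ => Ideal.mul_mem_mul (ih i q) (Ideal.subset_span ⟨(q, l), rfl⟩)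
  ext i l
  simpa [hk] using this k i l

include hnil in
theorem ker_le_jacobson : RingHom.ker t ≤ (⊥ : Ideal R).jacobson :=
  fun _ hr => Ideal.radical_le_jacobson (let ⟨k, hk⟩ := hnil _ hr; ⟨k, by simp [hk]⟩)

variable {M : Type u} [AddCommGroup M] [Module R M] {N : Type u} [AddCommGroup N] [Module S N]
  (u : M →ₛₗ[t] N) (hu : LinearMap.ker u = RingHom.ker t • (⊤ : Submodule R M))

include hu hnil in
/-- Nakayama along the nil kernel. -/
theorem eq_top_of_sup [Module.Finite R M] (P : Submodule R M) (hP : ∀ y, ∃ z ∈ P, u z = u y) : P = ⊤ := by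
  refine top_le_iff.mp (Submodule.le_of_le_smul_of_le_jacobson_bot (I := RingHom.ker t) Module.Finite.fg_top
    (ker_le_jacobson t hnil) fun y _ => ?_)
  obtain ⟨z, hz, hzy⟩ := hP y
  rw [show y = z + (y - z) by abel]
  exact add_mem (Submodule.mem_sup_left hz) (Submodule.mem_sup_right (hu ▸ by simp [hzy]))

include ht hnil hu in
/-- A splitting of a presentation lifts along a nil kernel, for a finite flat module. -/
theorem exists_section [Module.Finite R M] [Module.Flat R M] (g : Fin m → M) (s₀ : N →ₗ[S] (Fin m → S))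
    (hs₀ : ∀ y, ∑ i, s₀ y i • u (g i) = y) :
    ∃ s : M →ₗ[R] (Fin m → R), (∀ y, ∑ i, s y i • g i = y) ∧ ∀ y i, t (s y i) = s₀ (u y) i := by
  classical
  let φ : (Fin m → R) →ₗ[R] M := Fintype.linearCombination R g
  have hφ : ∀ c, φ c = ∑ i, c i • g i := fun c => Fintype.linearCombination_apply R g c
  have huφ : ∀ c, u (φ c) = ∑ i, t (c i) • u (g i) := fun c => by simp [hφ, map_sum]
  let e₀ : Matrix (Fin m) (Fin m) S := fun i l => s₀ (u (g i)) l
  have he₀ : ∀ c : Fin m → S, c ᵥ* e₀ = s₀ (∑ i, c i • u (g i)) := fun c => by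
    funext l
    simp [Matrix.vecMul, dotProduct, e₀, map_sum]
  have hidem : IsIdempotentElem e₀ := by
    refine Matrix.ext fun i l => ?_
    have := congrFun (he₀ (s₀ (u (g i)))) l
    rw [hs₀] at this
    exact this
  obtain ⟨X, hX, hXe⟩ := exists_isIdempotentElem_eq_of_ker_isNilpotent t.mapMatrix
    (fun X hX => isNilpotent_matrix t hnil X fun i l => by
      have := congrArg (fun Y : Matrix (Fin m) (Fin m) S => Y i l) (RingHom.mem_ker.mp hX)
      simpa using this)
    e₀ ⟨e₀.map (Function.surjInv ht), by ext i l; simp [Function.surjInv_eq ht]⟩ hidem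
  have htX : ∀ c : Fin m → R, (fun l => t ((c ᵥ* X) l)) = (fun l => t (c l)) ᵥ* e₀ := fun c => by
    funext l
    rw [← hXe, RingHom.map_vecMul]
    rfl
  let P : Submodule R (Fin m → R) := LinearMap.range (Matrix.vecMulLinear X)
  have hPX : ∀ c ∈ P, c ᵥ* X = c := by
    rintro _ ⟨d, rfl⟩
    simp only [Matrix.vecMulLinear_apply, Matrix.vecMul_vecMul, hX.eq]
  have hsurj : Submodule.map φ P = ⊤ := by
    refine eq_top_of_sup t hnil u hu _ fun y => ?_
    let c : Fin m → R := fun i => Function.surjInv ht (s₀ (u y) i)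
    refine ⟨_, ⟨c ᵥ* X, ⟨c, rfl⟩, rfl⟩, ?_⟩
    have h := htX c
    rw [show (fun l => t (c l)) = s₀ (u y) from funext fun l => Function.surjInv_eq ht _, he₀, hs₀] at h
    rw [huφ, show (fun i => t ((c ᵥ* X) i) • u (g i)) = fun i => s₀ (u y) i • u (g i) from
      funext fun i => by rw [congrFun h i]]
    exact hs₀ _
  have hinj : ∀ x ∈ P, φ x = 0 → x = 0 := by
    intro x hx hx0
    rw [hφ] at hx0
    obtain ⟨k, a, y, hg, hxa⟩ := Module.Flat.isTrivialRelation_of_sum_smul_eq_zero hx0
    have hY : ∀ j, ∃ Y : Fin m → R, φ Y = y j := fun j => by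
      obtain ⟨Y, -, hY⟩ := hsurj.ge (Submodule.mem_top (x := y j))
      exact ⟨Y, hY⟩
    choose Y hY using hY
    let d : Matrix (Fin m) (Fin m) R := fun i => Pi.single i 1 - ∑ j, a i j • Y j
    have hd : ∀ i, φ (d i) = 0 := fun i => by
      simp only [d, map_sub, map_sum, map_smul, hY, φ, Fintype.linearCombination_apply_single, one_smul, ← hg,
        sub_self]
    have hnl : IsNilpotent (d * X) := isNilpotent_matrix t hnil _ fun i l => by
      have h := congrFun (htX (d i)) l
      rw [he₀, ← huφ, hd, map_zero, map_zero] at h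
      exact h
    have hxd : x ᵥ* d = x := by
      funext l
      simp only [Matrix.vecMul, dotProduct, d, Pi.sub_apply, Finset.sum_apply, Pi.smul_apply, smul_eq_mul, mul_sub,
        Finset.sum_sub_distrib, Finset.mul_sum]
      rw [Finset.sum_comm (f := fun i j => x i * (a i j * Y j l))]
      have h0 : ∀ j, ∑ i, x i * (a i j * Y j l) = 0 := fun j => by
        simp only [← mul_assoc, ← Finset.sum_mul, hxa, zero_mul]
      simp only [h0, Finset.sum_const_zero, sub_zero]
      rw [Finset.sum_eq_single l (fun i _ hi => by simp [Pi.single_eq_of_ne (Ne.symm hi)]) (by simp)]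
      simp
    have hfix : x ᵥ* (1 - d * X) = 0 := by
      rw [Matrix.vecMul_sub, Matrix.vecMul_one, ← Matrix.vecMul_vecMul, hxd, hPX x hx, sub_self]
    obtain ⟨v, hv⟩ := hnl.isUnit_one_sub
    have := congrArg (fun w => w ᵥ* (↑v⁻¹ : Matrix (Fin m) (Fin m) R)) hfix
    simpa [← hv, Matrix.vecMul_vecMul, Units.mul_inv] using this
  let ψ := φ.comp P.subtype
  have hψ : Function.Bijective ψ := by
    constructor
    · rw [injective_iff_map_eq_zero]
      exact fun x hx => Subtype.ext (hinj x x.2 hx)
    · intro y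
      obtain ⟨z, hz, hzy⟩ := hsurj.ge (Submodule.mem_top (x := y))
      exact ⟨⟨z, hz⟩, hzy⟩
  let E := LinearEquiv.ofBijective ψ hψ
  refine ⟨P.subtype.comp E.symm.toLinearMap, fun y => ?_, fun y i => ?_⟩
  · exact (hφ _).symm.trans (E.apply_symm_apply y)
  · have hz : φ (E.symm y : Fin m → R) = y := E.apply_symm_apply y
    have h := congrFun (htX (E.symm y : Fin m → R)) i
    rw [he₀, ← huφ, hz, hPX _ (E.symm y).2] at h
    exact h

end Groth.Agent.LimProj7
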